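import Cfsg.Agent.H389.R.Mult
import Cfsg.Agent.H478.WalterAll
import Cfsg.Agent.ClassicalGeometry.PSL2Basic
import Cfsg.Agent.SporadicB.J1.Main
import Cfsg.Agent.S2086
import Cfsg.Agent.S2113

/-!
# S3530: the possible components, and their multipliers (helper321)

`isK_of_simple`: a finite nonabelian simple group without elements of order divisible by `4` and of order prime to
`5` is of linear type `IsL2` or of Ree type `IsRee`.
`noMult`: such a group has no nontrivial perfect central `ℓ`-extensions, `ℓ` odd.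
-/

set_option autoImplicit false

namespace Cfsg.Agent.H389.RSq

open Subgroup
open Cfsg.Agent.H389.JSq (Has)

universe u v

namespace TypesAux

open Cfsg.Agent.ClassicalGeometry.PSL2Basic

/-- `5 ∤ |PSL(2,q)|` implies `5 ∤ q (q ^ 2 - 1)` -/
theorem five_psl {F : Type} [Field F] [Fintype F]
    (h5 : ¬ 5 ∣ Nat.card (Matrix.ProjectiveSpecialLinearGroup (Fin 2) F)) :
    ¬ 5 ∣ Fintype.card F * (Fintype.card F ^ 2 - 1) := by
  intro h
  apply h5
  rw [← card_PSL2_gcd] at h
  rcases (Nat.prime_five.dvd_mul).1 h with h | h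
  · exact h
  · exfalso
    have h1 := Nat.gcd_dvd_left 2 (Fintype.card F - 1)
    have h2 := Nat.le_of_dvd (by norm_num) (h.trans h1)
    omega

/-- a perfect central extension with kernel an `ℓ`-group splits if the multiplier is cyclic of order prime to `ℓ` -/
theorem noMult_of {ℓ n : ℕ} (hℓ : ℓ.Prime) (hn : n ≠ 0) (hln : ¬ ℓ ∣ n) {L : Type u} [Group L] {L' : Type} [Group L']
    (e : L ≃* L') (h : Cfsg.HasCyclicSchurMultiplier L' n) : NoMult ℓ L := by
  intro P _ _ π hπ hcen hperf hker
  obtain ⟨P', iP, iF, ⟨g⟩⟩ := Finite.exists_type_univ_nonempty_mulEquiv.{u, 0} P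
  set σ : P' →* L' := (e.toMonoidHom.comp π).comp g.symm.toMonoidHom with hσ
  have hsurj : Function.Surjective σ := by
    rw [hσ]
    exact (e.surjective.comp hπ).comp g.symm.surjective
  have hmem : ∀ x : P', x ∈ σ.ker ↔ g.symm x ∈ π.ker := by
    intro x
    rw [MonoidHom.mem_ker, MonoidHom.mem_ker]
    change e (π (g.symm x)) = 1 ↔ _
    rw [map_eq_one_iff e e.injective]
  have hstem : Cfsg.IsStemExtension σ := by
    refine ⟨hsurj, ?_, ?_⟩
    · intro x hx
      rw [mem_center_iff]
      intro y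
      have h1 := hcen ((hmem x).1 hx)
      rw [mem_center_iff] at h1
      have h2 := congrArg g (h1 (g.symm y))
      simpa using h2
    · have hc : commutator P' = ⊤ := by
        have h1 : (commutator P).map g.toMonoidHom = commutator P' := by
          rw [commutator_def, commutator_def, Subgroup.map_commutator]
          have h2 : (⊤ : Subgroup P).map g.toMonoidHom = ⊤ :=
            (MonoidHom.range_eq_map _).symm.trans (MonoidHom.range_eq_top.2 g.surjective)
          rw [h2]
        have h2 : commutator P = ⊤ := hperf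
        rw [← h1, h2]
        exact (MonoidHom.range_eq_map _).symm.trans (MonoidHom.range_eq_top.2 g.surjective)
      rw [hc]
      exact le_top
  have : NeZero n := ⟨hn⟩
  obtain ⟨ρ, hρ⟩ := h.2 P' σ hstem
  have hdvd : Nat.card σ.ker ∣ n := by
    have h1 : Nat.card σ.ker ∣ Nat.card (Multiplicative (ZMod n)) := Subgroup.card_dvd_of_surjective ρ hρ
    rwa [Nat.card_eq_of_bijective (Multiplicative.toAdd) Multiplicative.toAdd.bijective, Nat.card_zmod] at h1
  -- the kernels are isomorphic
  have hcard : Nat.card σ.ker = Nat.card π.ker := by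
    refine Nat.card_congr (Equiv.subtypeEquiv g.symm.toEquiv ?_)
    intro x
    exact hmem x
  rw [hcard] at hdvd
  have : Fact ℓ.Prime := ⟨hℓ⟩
  obtain ⟨k, hk⟩ := IsPGroup.iff_card.1 hker
  rcases Nat.eq_zero_or_pos k with rfl | hk0
  · exact Subgroup.card_eq_one.1 (by rw [hk, pow_zero])
  · exact absurd ((dvd_pow_self ℓ hk0.ne').trans (hk ▸ hdvd)) hln

end TypesAux

open TypesAux in
/-- **the possible components** -/
theorem isK_of_simple {m : ℕ} {L : Type u} [Group L] [Finite L] [IsSimpleGroup L] (hL : ¬ IsMulCommutative L)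
    (h4 : ∀ g : L, ¬ 4 ∣ orderOf g) (h5 : ¬ 5 ∣ Nat.card L) : IsK L := by
  rcases H478.WalterAll.iso_of_exponent hL (fun x hx => h4 x (by rw [hx])) with
    ⟨F, iF, iT, n, hn, hF, ⟨e⟩⟩ | ⟨F, iF, iT, hF8, hF5, ⟨e⟩⟩ | h | h
  · -- characteristic two
    left
    refine ⟨2, n, ⟨Nat.prime_two, F, iF, iT, hF, ⟨e⟩⟩, ?_, h5, ?_⟩
    · rw [Nat.card_congr e.toEquiv] at h5
      have h := five_psl h5
      rw [hF] at h
      by_contra hodd
      rw [Nat.not_odd_iff_even] at hodd
      obtain ⟨k, rfl⟩ := hodd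
      apply h
      apply Dvd.dvd.mul_left
      have h1 : (2 ^ (k + k)) ^ 2 = 16 ^ k := by
        rw [← pow_mul, show (k + k) * 2 = 4 * k by ring, pow_mul]; norm_num
      rw [h1]
      exact (show 5 ∣ 16 - 1 by norm_num).trans (by simpa using Nat.sub_dvd_pow_sub_pow 16 1 k)
    · left
      refine ⟨rfl, ?_⟩
      rw [Nat.card_congr e.toEquiv] at h5
      have h := five_psl h5
      rw [hF] at h
      by_contra hlt
      have : n = 2 := by omega
      subst this
      exact h (by norm_num)
  · left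
    have hp : (ringChar F).Prime := CharP.char_is_prime F (ringChar F)
    obtain ⟨f, -, hf⟩ := FiniteField.card F (ringChar F)
    rw [Nat.card_congr e.toEquiv] at h5
    have h := five_psl h5
    have hs2 : ringChar F ≠ 2 := by
      intro h2
      rw [h2] at hf
      have h3 : 2 ∣ Fintype.card F := by rw [hf]; exact dvd_pow_self _ f.ne_zero
      omega
    refine ⟨ringChar F, f, ⟨hp, F, iF, iT, hf, ⟨e⟩⟩, ?_, ?_, Or.inr ⟨hs2, ?_, ?_⟩⟩
    · by_contra hodd
      rw [Nat.not_odd_iff_even] at hodd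
      obtain ⟨k, hk⟩ := hodd
      have h1 : Fintype.card F = (ringChar F ^ k) ^ 2 := by
        rw [hf, hk, ← pow_mul, mul_two]
      have h2 : Fintype.card F % 8 = ((ringChar F ^ k) % 8) ^ 2 % 8 := by
        rw [h1, Nat.pow_mod]
      have h3 : (ringChar F ^ k) % 8 < 8 := Nat.mod_lt _ (by norm_num)
      generalize (ringChar F ^ k) % 8 = r at h2 h3
      interval_cases r <;> omega
    · rw [Nat.card_congr e.toEquiv]
      exact h5
    · rw [← hf]
      exact hF8
    · rw [← hf]
      by_contra hlt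
      have : Fintype.card F = 5 ∨ Fintype.card F = 11 := by omega
      rcases this with h1 | h1 <;> rw [h1] at h <;> exact h (by norm_num)
  · right
    obtain ⟨K, iK, iT, m₁, hm, hK, e⟩ := h
    exact ⟨m₁, hm, K, iK, iT, hK, e⟩
  · exfalso
    apply h5
    obtain ⟨e⟩ := h
    rw [Nat.card_congr e.toEquiv, SporadicB.J1.Main.isJ1.2]
    norm_num

/-- **no multipliers of odd order** -/
theorem noMult {L : Type u} [Group L] [Finite L] (h : IsK L) {ℓ : ℕ} (hℓ : ℓ.Prime) (hℓ2 : ℓ ≠ 2) :
    NoMult ℓ L := by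
  rcases h with ⟨s, f, h⟩ | ⟨m, hm, K, _, _, hK, ⟨e⟩⟩
  · obtain ⟨hs, F, _, _, hF, ⟨e⟩⟩ := h.psl
    have hq8 : 8 ≤ s ^ f := by
      rcases h.type with ⟨rfl, h3⟩ | ⟨-, -, h3⟩
      · calc 8 = 2 ^ 3 := by norm_num
          _ ≤ 2 ^ f := Nat.pow_le_pow_right (by norm_num) h3
      · omega
    have hq9 : s ^ f ≠ 9 := by
      intro h9
      rcases h.type with ⟨rfl, h3⟩ | ⟨-, h8, -⟩
      · have : 2 ∣ 2 ^ f := dvd_pow_self _ (by omega)
        omega
      · omega
    have hM := S2086.result (F := F) (q := s ^ f) hF 2 le_rfl (fun _ => by omega) (by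
      simp only [Set.mem_insert_iff, Set.mem_singleton_iff, Prod.mk.injEq, true_and]
      omega)
    have hd := Nat.gcd_dvd_left 2 (s ^ f - 1)
    refine TypesAux.noMult_of hℓ ?_ ?_ e hM
    · intro h0
      rw [h0] at hd
      omega
    · intro h1
      exact hℓ2 ((Nat.prime_dvd_prime_iff_eq hℓ Nat.prime_two).1 (h1.trans hd))
  · exact TypesAux.noMult_of hℓ one_ne_zero (fun h1 => hℓ.one_lt.ne' (Nat.dvd_one.1 h1)) e
      (S2113.result hm hK)

end Cfsg.Agent.H389.RSq
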